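import Groth.Prelude.Def_Lie2
import Groth.Prelude.Def_GLin
import Groth.Agent.Lib.DimOne23.Connected
import Groth.Agent.Lib.HopfIdem23.Basic
import Groth.Agent.Lib.Unip23.Log
import Mathlib.RingTheory.Filtration

/-!
# Unipotent groups in characteristic zero are detected by their Lie algebra
-/

set_option autoImplicit false
set_option linter.style.haveILetI false
universe u v w

open TensorProduct

noncomputable section

namespace Groth.Agent.UnipLie23

variable (k : Type u) [Field k] [CharZero k] {A : Type u} [CommRing A] [HopfAlgebra k A]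

theorem eq_zero_or_one_of_idempotent (hU : HopfRep.IsUnipotent k A) (e : A) (he : IsIdempotentElem e) :
    e = 0 ∨ e = 1 := by
  have key : ∀ e : A, IsIdempotentElem e → Bialgebra.counitAlgHom k A e = 0 → e = 0 := by
    intro e he h0
    set P := Unip23.expAlg hU e
    have hP : P * P = P := by rw [← map_mul, he.eq]
    have hX : Polynomial.X ∣ P := by
      rw [Polynomial.X_dvd_iff, Unip23.expAlg_coeff_zero]
      exact (congrArg (algebraMap k A) h0).trans (map_zero _)
    have hN : ∀ N, P ^ (N + 1) = P := by
      intro N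
      induction N with
      | zero => rw [zero_add, pow_one]
      | succ N ih => rw [pow_succ, ih, hP]
    have h1 : P = 0 := Polynomial.ext fun d => by
      rw [Polynomial.coeff_zero]
      exact Polynomial.X_pow_dvd_iff.mp (hN d ▸ pow_dvd_pow_of_dvd hX (d + 1)) d (Nat.lt_succ_self d)
    have h2 : P.eval 1 = e := by
      rw [← Nat.cast_one, Unip23.expAlg_eval, pow_one]
      rfl
    rw [← h2, h1, Polynomial.eval_zero]
  have h : Bialgebra.counitAlgHom k A e = 0 ∨ Bialgebra.counitAlgHom k A e = 1 :=
    IsIdempotentElem.iff_eq_zero_or_one.mp (he.map _)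
  rcases h with h | h
  · exact Or.inl (key e he h)
  · refine Or.inr (sub_eq_zero.mp (key (1 - e) he.one_sub (by rw [map_sub, map_one, h, sub_self]))).symm

variable [IsAlgClosed k] [Algebra.FiniteType k A]

theorem isDomain_of_isUnipotent (hU : HopfRep.IsUnipotent k A) : IsDomain A := by
  haveI : IsReduced A := HopfIdem23.isReduced_of_charZero (k := k)
  exact DimOne23.isDomain_of_connected k A (eq_zero_or_one_of_idempotent k hU)

variable {k}

/-- The left invariant derivation of an `ε`-derivation. -/
def invDer (ξ : LieHopf.Lie k A) : A →ₗ[k] A :=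
  (TensorProduct.rid k A).toLinearMap ∘ₗ
    ((ξ.toLinearMap.restrictScalars k : A →ₗ[k] k).lTensor A) ∘ₗ CoalgebraStruct.comul

omit [CharZero k] [IsAlgClosed k] [Algebra.FiniteType k A] in
theorem invDer_mul (ξ : LieHopf.Lie k A) (a b : A) : invDer ξ (a * b) = a * invDer ξ b + b * invDer ξ a := by
  let l : A →ₗ[k] k := ξ.toLinearMap.restrictScalars k
  have hl : ∀ x y : A, l (x * y) =
      Bialgebra.counitAlgHom k A x * l y + Bialgebra.counitAlgHom k A y * l x := fun x y => ξ.leibniz x y
  let φ : A ⊗[k] A →ₗ[k] A := (TensorProduct.rid k A).toLinearMap ∘ₗ l.lTensor A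
  let ψ : A ⊗[k] A →ₗ[k] A :=
    (TensorProduct.rid k A).toLinearMap ∘ₗ (Bialgebra.counitAlgHom k A).toLinearMap.lTensor A
  have hφ : ∀ x y, φ (x * y) = ψ x * φ y + ψ y * φ x := by
    intro x y
    induction x using TensorProduct.induction_on with
    | zero => simp
    | add s t hs ht => simp only [add_mul, map_add, hs, ht, mul_add]; ring
    | tmul p q =>
      induction y using TensorProduct.induction_on with
      | zero => simp
      | add s t hs ht => simp only [mul_add, map_add, hs, ht, add_mul]; ring
      | tmul r s =>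
        simp [φ, ψ, hl, Algebra.smul_def, map_add, map_mul, LinearMap.lTensor_tmul]
        ring
  have hψ : ∀ c, ψ (CoalgebraStruct.comul c) = c := fun c => by
    show TensorProduct.rid k A ((Coalgebra.counit (R := k) (A := A)).lTensor A _) = c
    rw [Coalgebra.lTensor_counit_comul, TensorProduct.rid_tmul, one_smul]
  show φ (Coalgebra.comul (R := k) (a * b)) = _
  rw [Bialgebra.comul_mul, hφ, hψ, hψ]
  rfl

omit [CharZero k] [IsAlgClosed k] [Algebra.FiniteType k A] in
theorem counit_invDer (ξ : LieHopf.Lie k A) (a : A) :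
    Bialgebra.counitAlgHom k A (invDer ξ a) = (ξ.toLinearMap.restrictScalars k : A →ₗ[k] k) a := by
  let l : A →ₗ[k] k := ξ.toLinearMap.restrictScalars k
  have h : ∀ z : A ⊗[k] A, Bialgebra.counitAlgHom k A (TensorProduct.rid k A (l.lTensor A z)) =
      l (TensorProduct.lid k A ((Coalgebra.counit (R := k) (A := A)).rTensor A z)) := by
    intro z
    induction z using TensorProduct.induction_on with
    | zero => simp
    | add s t hs ht => simp only [map_add, hs, ht]
    | tmul p q => simp [mul_comm]
  show Bialgebra.counitAlgHom k A (TensorProduct.rid k A (l.lTensor A (Coalgebra.comul (R := k) a))) = _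
  rw [h, Coalgebra.rTensor_counit_comul, TensorProduct.lid_tmul, one_smul]
  rfl

/-- The augmentation ideal. -/
abbrev aug0 (k : Type u) [Field k] (A : Type u) [CommRing A] [HopfAlgebra k A] : Ideal A :=
  RingHom.ker (Bialgebra.counitAlgHom k A)

omit [IsAlgClosed k] in
/-- If all invariant derivatives lie in `m^n`, an element of `m^n` lies in `m^(n+1)`. -/
theorem mem_aug_pow_succ (n : ℕ) (hn : n ≠ 0) (a : A) (ha : a ∈ aug0 k A ^ n)
    (hD : ∀ ξ : LieHopf.Lie k A, invDer ξ a ∈ aug0 k A ^ n) : a ∈ aug0 k A ^ (n + 1) := by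
  classical
  let m := aug0 k A
  let M₂ : Submodule k A := (m ^ 2).restrictScalars k
  -- cotangent coordinates
  haveI : IsNoetherianRing A := Algebra.FiniteType.isNoetherianRing k A
  obtain ⟨s, hs⟩ := IsNoetherian.noetherian m
  let W : Submodule k (A ⧸ M₂) := (m.restrictScalars k).map M₂.mkQ
  have hW : W ≤ Submodule.span k ((fun x => M₂.mkQ x) '' (s : Set A)) := by
    rintro _ ⟨x, hx, rfl⟩
    have hx' : x ∈ Submodule.span A (s : Set A) := hs ▸ hx
    induction hx' using Submodule.span_induction with
    | mem y hy => exact Submodule.subset_span ⟨y, hy, rfl⟩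
    | zero => simp
    | add y z _ _ hy hz => rw [map_add]; exact add_mem (hy (hs ▸ ‹_›)) (hz (hs ▸ ‹_›))
    | smul c y hy' ih =>
      have hym : y ∈ m := hs ▸ hy'
      have e : M₂.mkQ (c • y) = Bialgebra.counitAlgHom k A c • M₂.mkQ y := by
        rw [← map_smul, ← sub_eq_zero, ← map_sub, Submodule.mkQ_apply, Submodule.Quotient.mk_eq_zero]
        show c • y - _ • y ∈ m ^ 2
        rw [smul_eq_mul, Algebra.smul_def, ← sub_mul, pow_two]
        refine Ideal.mul_mem_mul ?_ hym
        simp [m, RingHom.mem_ker]
      rw [e]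
      exact Submodule.smul_mem _ _ (ih hym)
  haveI : FiniteDimensional k W :=
    have := FiniteDimensional.span_of_finite k (s.finite_toSet.image fun x => M₂.mkQ x)
    Submodule.finiteDimensional_of_le hW
  let b := Module.finBasis k W
  choose x hxm hxb using fun i => ((b i).2 : ((b i : A ⧸ M₂)) ∈ (m.restrictScalars k).map M₂.mkQ)
  let pr : A →ₗ[k] A ⧸ M₂ := M₂.mkQ ∘ₗ
    (LinearMap.id - (Algebra.linearMap k A) ∘ₗ (Bialgebra.counitAlgHom k A).toLinearMap)
  have hpr : ∀ y, pr y ∈ W := fun y => ⟨y - algebraMap k A (Bialgebra.counitAlgHom k A y),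
    by simp [m, RingHom.mem_ker], rfl⟩
  let c : Fin (Module.finrank k W) → A →ₗ[k] k := fun i => b.coord i ∘ₗ pr.codRestrict W hpr
  have hleib : ∀ i y z, c i (y * z) = Bialgebra.counitAlgHom k A y * c i z + Bialgebra.counitAlgHom k A z * c i y := by
    intro i y z
    have e : pr (y * z) = Bialgebra.counitAlgHom k A y • pr z + Bialgebra.counitAlgHom k A z • pr y := by
      simp only [pr, LinearMap.comp_apply, LinearMap.sub_apply, LinearMap.id_apply, AlgHom.toLinearMap_apply,
        Algebra.linearMap_apply, ← map_smul, ← map_add]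
      rw [← sub_eq_zero, ← map_sub, Submodule.mkQ_apply, Submodule.Quotient.mk_eq_zero]
      show _ ∈ m ^ 2
      have : (y - algebraMap k A (Bialgebra.counitAlgHom k A y)) * (z - algebraMap k A (Bialgebra.counitAlgHom k A z)) ∈ m ^ 2 := by
        rw [pow_two]
        exact Ideal.mul_mem_mul (by simp [m, RingHom.mem_ker]) (by simp [m, RingHom.mem_ker])
      convert this using 1
      simp only [map_mul, Algebra.smul_def]
      ring
    have e' : pr.codRestrict W hpr (y * z) = Bialgebra.counitAlgHom k A y • pr.codRestrict W hpr z +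
        Bialgebra.counitAlgHom k A z • pr.codRestrict W hpr y := Subtype.ext e
    simp only [c, LinearMap.comp_apply, e', map_add, map_smul, smul_eq_mul]
  let ξ : Fin (Module.finrank k W) → LieHopf.Lie k A := fun i =>
    Derivation.mk' (show A →ₗ[k] LieHopf.K k A from c i) fun y z => hleib i y z
  let E : A →ₗ[k] A := ∑ i, (LinearMap.mulLeft k (x i)) ∘ₗ invDer (ξ i)
  have hEmul : ∀ y z, E (y * z) = y * E z + z * E y := by
    intro y z
    simp only [E, LinearMap.sum_apply, LinearMap.comp_apply, LinearMap.mulLeft_apply, invDer_mul,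
      Finset.mul_sum, ← Finset.sum_add_distrib]
    exact Finset.sum_congr rfl fun i _ => by ring
  have hE1 : ∀ y ∈ m, E y - y ∈ m ^ 2 := by
    intro y hy
    have hεy : Bialgebra.counitAlgHom k A y = 0 := hy
    have h1 : E y - ∑ i, c i y • x i ∈ m ^ 2 := by
      simp only [E, LinearMap.sum_apply, LinearMap.comp_apply, LinearMap.mulLeft_apply]
      rw [← Finset.sum_sub_distrib]
      refine Ideal.sum_mem _ fun i _ => ?_
      rw [Algebra.smul_def, mul_comm (algebraMap k A (c i y)), ← mul_sub, pow_two]
      refine Ideal.mul_mem_mul (hxm i) ?_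
      rw [RingHom.mem_ker, map_sub, AlgHom.commutes, counit_invDer, Algebra.algebraMap_self, RingHom.id_apply, sub_eq_zero]
      rfl
    have h2 : ∑ i, c i y • x i - y ∈ m ^ 2 := by
      show ∑ i, c i y • x i - y ∈ M₂
      rw [← Submodule.Quotient.eq]
      show M₂.mkQ (∑ i, c i y • x i) = M₂.mkQ y
      have h3 := congrArg Subtype.val (b.sum_repr (pr.codRestrict W hpr y))
      simp only [AddSubmonoidClass.coe_finsetSum, SetLike.val_smul] at h3
      rw [map_sum]
      simp only [map_smul, hxb]
      refine h3.trans ?_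
      show M₂.mkQ (y - algebraMap k A (Bialgebra.counitAlgHom k A y)) = _
      rw [hεy, map_zero, sub_zero]
    simpa using add_mem h1 h2
  have hEn : ∀ j : ℕ, ∀ y ∈ m ^ (j + 1), E y - (j + 1 : ℕ) • y ∈ m ^ (j + 2) := by
    intro j
    induction j with
    | zero => intro y hy; rw [pow_one] at hy; simpa using hE1 y hy
    | succ j ih =>
      intro y hy
      rw [pow_succ] at hy
      refine Submodule.mul_induction_on hy (fun u hu v hv => ?_) (fun u v hu hv => ?_)
      · have e : E (u * v) - (j + 1 + 1) • (u * v) = u * (E v - v) + v * (E u - (j + 1) • u) := by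
          rw [hEmul, succ_nsmul (u * v) (j + 1), mul_sub, mul_sub, mul_smul_comm, mul_comm v u]
          abel
        rw [e]
        refine add_mem ?_ ?_
        · have := Ideal.mul_mem_mul hu (hE1 v hv)
          rwa [← pow_add] at this
        · have := Ideal.mul_mem_mul hv (ih u hu)
          rwa [← pow_succ'] at this
      · rw [map_add, smul_add]
        have := add_mem hu hv
        convert this using 1
        abel
  obtain ⟨j, rfl⟩ := Nat.exists_eq_succ_of_ne_zero hn
  have h1 : E a ∈ m ^ (j + 2) := by
    simp only [E, LinearMap.sum_apply, LinearMap.comp_apply, LinearMap.mulLeft_apply]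
    refine Ideal.sum_mem _ fun i _ => ?_
    have := Ideal.mul_mem_mul (hxm i) (hD (ξ i))
    rwa [← pow_succ'] at this
  have h2 : ((j + 1 : ℕ) : k) • a ∈ (m ^ (j + 2)).restrictScalars k := by
    rw [Nat.cast_smul_eq_nsmul]
    simpa using sub_mem h1 (hEn j a ha)
  exact (Submodule.smul_mem_iff _ (Nat.cast_ne_zero.mpr (Nat.succ_ne_zero j))).mp h2

theorem eq_zero_of_derivation_closed (hU : HopfRep.IsUnipotent k A) {Q : Type v} [AddCommGroup Q] [Module k Q]
    {M : Type w} (c : M → Q ⊗[k] A)
    (hε : ∀ m, TensorProduct.rid k Q ((Coalgebra.counit (R := k) (A := A)).lTensor Q (c m)) = 0)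
    (hD : ∀ (ξ : LieHopf.Lie k A) (m : M), ∃ m', (invDer ξ).lTensor Q (c m) = c m') (m : M) :
    c m = 0 := by
  haveI := isDomain_of_isUnipotent k hU
  haveI : IsNoetherianRing A := Algebra.FiniteType.isNoetherianRing k A
  let comp : Module.Dual k Q → Q ⊗[k] A → A := fun φ z => TensorProduct.lid k A (φ.rTensor A z)
  have key : ∀ n, ∀ m φ, comp φ (c m) ∈ aug0 k A ^ (n + 1) := by
    intro n
    induction n with
    | zero =>
      intro m φ
      rw [zero_add, pow_one, RingHom.mem_ker]
      have h : ∀ z : Q ⊗[k] A, Bialgebra.counitAlgHom k A (comp φ z) =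
          φ (TensorProduct.rid k Q ((Coalgebra.counit (R := k) (A := A)).lTensor Q z)) := by
        intro z
        induction z using TensorProduct.induction_on with
        | zero => simp [comp]
        | add s t hs ht => simp only [comp, map_add] at hs ht ⊢; rw [hs, ht]
        | tmul p q => simp [comp, mul_comm]
      rw [h, hε, map_zero]
    | succ n ih =>
      intro m φ
      refine mem_aug_pow_succ (n + 1) (Nat.succ_ne_zero n) _ (ih m φ) fun ξ => ?_
      obtain ⟨m', hm'⟩ := hD ξ m
      have h : ∀ z : Q ⊗[k] A, invDer ξ (comp φ z) = comp φ ((invDer ξ).lTensor Q z) := by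
        intro z
        induction z using TensorProduct.induction_on with
        | zero => simp [comp]
        | add s t hs ht => simp only [comp, map_add] at hs ht ⊢; rw [hs, ht]
        | tmul p q => simp [comp]
      rw [h, hm']
      exact ih m' φ
  have hne : aug0 k A ≠ ⊤ := RingHom.ker_ne_top _
  have h0 : ∀ φ, comp φ (c m) = 0 := by
    intro φ
    have hmem : comp φ (c m) ∈ ⨅ i, aug0 k A ^ i := by
      refine Ideal.mem_iInf.mpr fun i => ?_
      rcases i with _ | i
      · simp
      · exact key i m φ
    rwa [Ideal.iInf_pow_eq_bot_of_isDomain _ hne, Ideal.mem_bot] at hmem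
  let bQ := Module.Free.chooseBasis k Q
  refine (TensorProduct.equivFinsuppOfBasisLeft bQ).injective (Finsupp.ext fun i => ?_)
  rw [map_zero, Finsupp.zero_apply, TensorProduct.equivFinsuppOfBasisLeft_apply]
  exact h0 (bQ.coord i)

section Comod

variable {R : Type w} [AddCommGroup R] [Module k R] [HopfRep.Comod k A R]

/-- The operator of an `ε`-derivation on a comodule. -/
def act (ξ : LieHopf.Lie k A) : R →ₗ[k] R :=
  (TensorProduct.rid k R).toLinearMap ∘ₗ
    ((ξ.toLinearMap.restrictScalars k : A →ₗ[k] k).lTensor R) ∘ₗ HopfRep.Comod.coact (k := k) (A := A)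

omit [CharZero k] [IsAlgClosed k] [Algebra.FiniteType k A] in
theorem invDer_coact (ξ : LieHopf.Lie k A) (f : R) :
    (invDer ξ).lTensor R (HopfRep.Comod.coact (k := k) (A := A) f) =
      HopfRep.Comod.coact (k := k) (A := A) (act ξ f) := by
  let l : A →ₗ[k] k := ξ.toLinearMap.restrictScalars k
  have h1 : ∀ z : (R ⊗[k] A), (invDer ξ).lTensor R z =
      TensorProduct.rid k _ (l.lTensor (R ⊗[k] A) ((TensorProduct.assoc k R A A).symm
        ((CoalgebraStruct.comul (R := k) (A := A)).lTensor R z))) := by
    intro z
    induction z using TensorProduct.induction_on with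
    | zero => simp
    | add s t hs ht => simp only [map_add, hs, ht]
    | tmul p q =>
      simp only [LinearMap.lTensor_tmul, invDer, LinearMap.comp_apply]
      induction Coalgebra.comul (R := k) q using TensorProduct.induction_on with
      | zero => simp
      | add s t hs ht => simp only [map_add, tmul_add, hs, ht]
      | tmul a b =>
        change p ⊗ₜ[k] TensorProduct.rid k A (a ⊗ₜ[k] l b) = l b • p ⊗ₜ[k] a
        rw [TensorProduct.rid_tmul, TensorProduct.tmul_smul, TensorProduct.smul_tmul']
  have h2 : ∀ z : (R ⊗[k] A), TensorProduct.rid k _ (l.lTensor (R ⊗[k] A)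
      ((HopfRep.Comod.coact (k := k) (A := A) (V := R)).rTensor A z)) =
      HopfRep.Comod.coact (k := k) (A := A) (TensorProduct.rid k R (l.lTensor R z)) := by
    intro z
    induction z using TensorProduct.induction_on with
    | zero => simp
    | add s t hs ht => simp only [map_add, hs, ht]
    | tmul p q => simp
  show (invDer ξ).lTensor R _ = HopfRep.Comod.coact (k := k) (A := A) (TensorProduct.rid k R (l.lTensor R _))
  rw [h1, ← h2]
  congr 2
  apply (TensorProduct.assoc k R A A).injective
  rw [LinearEquiv.apply_symm_apply]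
  exact (LinearMap.congr_fun (HopfRep.Comod.coassoc (k := k) (A := A) (V := R)) f).symm

omit [CharZero k] [IsAlgClosed k] [Algebra.FiniteType k A] in
theorem counit_coact (f : R) :
    TensorProduct.rid k R ((Coalgebra.counit (R := k) (A := A)).lTensor R
      (HopfRep.Comod.coact (k := k) (A := A) f)) = f := by
  have h := LinearMap.congr_fun (HopfRep.Comod.counit_comp (k := k) (A := A) (V := R)) f
  rw [LinearMap.comp_apply] at h
  rw [h]
  simp

end Comod

end Groth.Agent.UnipLie23
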